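import Cfsg.Agent.H359.CT.McLCnt
import Cfsg.Agent.H629.CY.Defs

/-!
# S4829: `McL`, `p = 3, 5` (helper41)

The rational characters of degree `9625` (`p = 3`) and `231` (`p = 5`), from the character table of helper359.
-/

set_option autoImplicit false
set_option maxRecDepth 100000

namespace Cfsg.Agent.H41.CY.McL

open Cfsg Subgroup Cfsg.Agent.H359.CT Cfsg.Agent.H359.CT.McL Cfsg.Agent.H447.CTab Cfsg.Agent.H41.McLTwo.Ords

universe u

theorem chk3 : ∀ i : Fin 24, os i ≠ 3 → os i ≠ 1 → ¬ 3 ^ 6 ∣ cc i := by decide +kernel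

theorem chk5 : ∀ i : Fin 24, os i ≠ 5 → os i ≠ 1 → ¬ 5 ^ 3 ∣ cc i := by decide +kernel

theorem card_cent_eq {G : Type u} [Group G] [Finite G] {x y : G} (h : IsConj x y) :
    Nat.card (centralizer ({x} : Set G)) = Nat.card (centralizer ({y} : Set G)) := by
  obtain ⟨c, rfl⟩ := isConj_iff.1 h
  have h1 : (centralizer ({x} : Set G)).map (MulAut.conj c).toMonoidHom = centralizer ({c * x * c⁻¹} : Set G) := by
    ext z
    rw [mem_map_equiv, mem_centralizer_singleton_iff, mem_centralizer_singleton_iff, MulAut.conj_symm_apply]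
    constructor
    · intro h2
      calc z * (c * x * c⁻¹) = c * (c⁻¹ * z * c * x) * c⁻¹ := by group
        _ = c * (x * (c⁻¹ * z * c)) * c⁻¹ := by rw [h2]
        _ = c * x * c⁻¹ * z := by group
    · intro h2
      calc c⁻¹ * z * c * x = c⁻¹ * (z * (c * x * c⁻¹)) * c := by group
        _ = c⁻¹ * (c * x * c⁻¹ * z) * c := by rw [h2]
        _ = x * (c⁻¹ * z * c) := by group
  rw [← h1]
  exact (Nat.card_congr ((centralizer ({x} : Set G)).equivMapOfInjective _ (MulAut.conj c).injective).toEquiv)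

theorem hc {G : Type u} [Group G] [Finite G] (e : G ≃* ↥Cfsg.Agent.McLType.Gens.K0) {p a : ℕ}
    (h : ∀ i : Fin 24, os i ≠ p → os i ≠ 1 → ¬ p ^ a ∣ cc i) (y : G) (hy : (orderOf y).Prime) (hyp : orderOf y ≠ p) :
    ¬ p ^ a ∣ Nat.card (centralizer ({y} : Set G)) := by
  obtain ⟨i, hi⟩ := (clT e).cover y
  have h1 : orderOf y = os i := by
    obtain ⟨c, rfl⟩ := isConj_iff.1 hi
    rw [← order_x e i]
    exact MulEquiv.orderOf_eq (MulAut.conj c) _
  rw [← card_cent_eq hi, (clT e).card i]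
  refine h i (by rwa [← h1]) ?_
  rw [← h1]
  exact hy.one_lt.ne'

/-- **`McL`**, `p = 3, 5` -/
theorem witOR_of {S : Type u} [Group S] (hS : Spor.IsoMcL S) {p a : ℕ} [hp : Fact p.Prime] (j : Fin 12)
    (h : ∀ i : Fin 24, os i ≠ p → os i ≠ 1 → ¬ p ^ a ∣ cc i) (ha : p ^ a ∣ 898128000)
    (hj : (R j (rc 0)).toNat ≠ 1) (hd : ¬ p ∣ (R j (rc 0)).toNat) (ho : Odd (R j (rc 0)).toNat) :
    H629.CY.WitOR p S := by
  obtain ⟨e⟩ := exists_e hS
  have hfin : Finite S := by
    refine Nat.finite_of_card_ne_zero ?_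
    rw [Nat.card_congr e.toEquiv, card_K0]
    norm_num
  obtain ⟨χ, -, hχ, -, -, -⟩ := (tab e).exists_irr
  have hdeg : charDegree (χ j : S → ℂ) = (R j (rc 0)).toNat := by
    refine Table.degree_eq ?_
    rw [← (tab e).hi0]
    exact hχ j 0
  intro M hM
  obtain ⟨P⟩ : Nonempty (Sylow p S) := inferInstance
  have hC := H493.RatB.isPGroup_centralizer (G := S) (p := p) (a := a) (by rw [card_G e]; exact ha) (hc e h) P
  refine ⟨χ j, H684.Principal.mem_of_not_dvd hM P.isPGroup' hC (χ j) (by rw [hdeg]; exact hd), ?_, by rw [hdeg]; exact hd,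
    by rw [hdeg]; exact ho, ?_⟩
  · intro h1
    apply hj
    rw [← hdeg, h1, charDegree]
    norm_num
  · intro g
    refine ⟨(R j (rc ((clT e).cl g)) : ℤ), ?_⟩
    rw [(clT e).apply (Characters.Core.isIrr_isClassFunction (χ j).2) g, hχ]
    push_cast
    rfl

/-- **`McL`**, `p = 3` : the character of degree 9625 -/
theorem witOR_mcl_three {S : Type u} [Group S] (hS : Spor.IsoMcL S) : H629.CY.WitOR 3 S := by
  have : Fact (Nat.Prime 3) := ⟨Nat.prime_three⟩
  exact witOR_of hS (a := 6) 11 chk3 (by norm_num) (by decide +kernel) (by decide +kernel) (by decide +kernel)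

/-- **`McL`**, `p = 5` : the character of degree 231 -/
theorem witOR_mcl_five {S : Type u} [Group S] (hS : Spor.IsoMcL S) : H629.CY.WitOR 5 S := by
  have : Fact (Nat.Prime 5) := ⟨Nat.prime_five⟩
  exact witOR_of hS (a := 3) 2 chk5 (by norm_num) (by decide +kernel) (by decide +kernel) (by decide +kernel)

end Cfsg.Agent.H41.CY.McL
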